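import Mathlib
import Groth.Prelude.Def_Mor2

/-!
Composites of regular closed immersions.
-/

set_option autoImplicit false
universe u
open CategoryTheory AlgebraicGeometry RingTheory.Sequence

namespace Groth.Agent.RegCompLib

/-- A regular sequence followed by lifts of a regular sequence of the quotient. -/
theorem isWeaklyRegular_append_lift {A B : Type u} [CommRing A] [CommRing B] (φ : A →+* B) (hφ : Function.Surjective φ)
    (rs : List A) (hk : RingHom.ker φ = Ideal.ofList rs) (hr : IsWeaklyRegular A rs)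
    (gl : List A) (hg : IsWeaklyRegular B (gl.map φ)) : IsWeaklyRegular A (rs ++ gl) := by
  rw [isWeaklyRegular_append_iff]
  refine ⟨hr, ?_⟩
  let N : Submodule A A := Ideal.ofList rs • ⊤
  have hN : N = RingHom.ker φ := by rw [hk]; exact (smul_eq_mul ..).trans (Ideal.mul_top _)
  let e : (A ⧸ N) ≃+ B :=
    ((Submodule.quotEquivOfEq _ _ hN).toAddEquiv).trans (RingHom.quotientKerEquivOfSurjective hφ).toAddEquiv
  refine (e.isWeaklyRegular_congr ?_).2 hg
  refine List.forall₂_map_right_iff.2 (List.forall₂_same.2 fun r _ y => ?_)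
  obtain ⟨a, rfl⟩ := Submodule.Quotient.mk_surjective N y
  exact map_mul φ r a

/-- Localising the ideal of a closed subscheme cut out by a regular sequence. -/
theorem exists_regular_basicOpen {Z Y : Scheme.{u}} (i : Z ⟶ Y) {V : Y.Opens} (hV : IsAffineOpen V) (gs : List Γ(Y, V))
    (hr : IsWeaklyRegular Γ(Y, V) gs) (hI : i.ker.ideal ⟨V, hV⟩ = Ideal.ofList gs) (g : Γ(Y, V))
    (W : Y.Opens) (hW : IsAffineOpen W) (e : W = Y.basicOpen g) :
    ∃ ws : List Γ(Y, W), IsWeaklyRegular Γ(Y, W) ws ∧ i.ker.ideal ⟨W, hW⟩ = Ideal.ofList ws := by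
  subst e
  letI : Algebra Γ(Y, V) Γ(Y, Y.basicOpen g) := (Y.presheaf.map (homOfLE (Y.basicOpen_le g)).op).hom.toAlgebra
  haveI : IsLocalization.Away g Γ(Y, Y.basicOpen g) := hV.isLocalization_basicOpen g
  haveI : Module.Flat Γ(Y, V) Γ(Y, Y.basicOpen g) := IsLocalization.flat _ (Submonoid.powers g)
  refine ⟨gs.map (algebraMap Γ(Y, V) Γ(Y, Y.basicOpen g)), hr.of_flat, ?_⟩
  rw [← Ideal.map_ofList, ← hI]
  exact (i.ker.map_ideal_basicOpen ⟨V, hV⟩ g).symm

theorem exists_regular_comp {Z Y X : Scheme.{u}} (i : Z ⟶ Y) (j : Y ⟶ X)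
    [IsClosedImmersion i] [IsClosedImmersion j] (hi : Mor2.IsRegularClosedImmersion i) (hj : Mor2.IsRegularClosedImmersion j) :
    Mor2.IsRegularClosedImmersion (i ≫ j) := by
  refine ⟨inferInstance, fun z => ?_⟩
  obtain ⟨U, hU, hzU, rs, hrs, hIU⟩ := hj.2 (i z)
  obtain ⟨V, hV, hzV, gs, hgs, hIV⟩ := hi.2 z
  obtain ⟨f, g, hfg, hzf⟩ := exists_basicOpen_le_affine_inter (hU.preimage j) hV (i z) ⟨hzU, hzV⟩
  obtain ⟨a, ha⟩ := j.app_surjective U hU f
  have hW : j ⁻¹ᵁ X.basicOpen a = Y.basicOpen g := by rw [Scheme.preimage_basicOpen, ← hfg, ← ha]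
  have hzU' : (i ≫ j) z ∈ X.basicOpen a := by
    show i z ∈ j ⁻¹ᵁ X.basicOpen a
    rw [hW, ← hfg]
    exact hzf
  obtain ⟨rs', hr', hI'⟩ := exists_regular_basicOpen j hU rs hrs.toIsWeaklyRegular hIU a _ (hU.basicOpen a) rfl
  obtain ⟨ws, hw, hJ⟩ := exists_regular_basicOpen i hV gs hgs.toIsWeaklyRegular hIV g _ ((hU.basicOpen a).preimage j) hW
  have hs := j.app_surjective _ (hU.basicOpen a)
  obtain ⟨gl, rfl⟩ : ∃ gl, List.map (j.app (X.basicOpen a)).hom gl = ws := List.map_surjective_iff.2 hs ws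
  rw [Scheme.Hom.ker_apply] at hI' hJ
  have hK : (i ≫ j).ker.ideal ⟨_, hU.basicOpen a⟩ = Ideal.ofList (rs' ++ gl) := by
    rw [Scheme.Hom.ker_apply]
    show RingHom.ker ((i.app (j ⁻¹ᵁ X.basicOpen a)).hom.comp (j.app (X.basicOpen a)).hom) = _
    rw [← RingHom.comap_ker, hJ, ← Ideal.map_ofList, Ideal.comap_map_of_surjective _ hs, ← RingHom.ker_eq_comap_bot, hI',
      Ideal.ofList_append, sup_comm]
  refine ⟨_, hU.basicOpen a, hzU', rs' ++ gl, ⟨isWeaklyRegular_append_lift _ hs rs' hI' hr' gl hw, ?_⟩, hK⟩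
  intro h
  rw [smul_eq_mul, Ideal.mul_top, ← hK, Scheme.Hom.ker_apply] at h
  haveI : Nonempty ↥((i ≫ j) ⁻¹ᵁ X.basicOpen a) := ⟨⟨z, hzU'⟩⟩
  have h1 : (1 : Γ(X, X.basicOpen a)) ∈ (⊤ : Ideal _) := trivial
  rw [h, RingHom.mem_ker, map_one] at h1
  exact one_ne_zero h1

end Groth.Agent.RegCompLib
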