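import Groth.Agent.RegSeqSlice.BaseChange
import Groth.Agent.RegCompLib.Basic

/-!
Flat base change of regular closed immersions.
-/

set_option autoImplicit false
universe u
open CategoryTheory CategoryTheory.Limits AlgebraicGeometry RingTheory.Sequence

namespace Groth.Agent.RegCompLib

open Groth.Agent.RegSeqSlice

/-- The chart of a closed immersion over an affine open. -/
theorem isPullback_chart {Y X : Scheme.{u}} (j : Y ⟶ X) [IsClosedImmersion j] {U : X.Opens} (hU : IsAffineOpen U) :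
    IsPullback (Spec.map (j.app U)) (hU.preimage j).fromSpec hU.fromSpec j := by
  have hW : IsAffineOpen (j ⁻¹ᵁ U) := hU.preimage j
  refine (isPullback_morphismRestrict j U).of_iso hW.isoSpec hU.isoSpec (Iso.refl _) (Iso.refl _) ?_ ?_ ?_ ?_
  · rw [← cancel_mono hU.fromSpec, Category.assoc, Category.assoc, hU.isoSpec_hom_fromSpec]
    erw [morphismRestrict_ι]
    rw [Scheme.Hom.app_eq_appLE, IsAffineOpen.SpecMap_appLE_fromSpec j hU hW, IsAffineOpen.isoSpec_hom_fromSpec_assoc]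
  · rw [Iso.refl_hom, Category.comp_id]; exact hW.isoSpec_hom_fromSpec.symm
  · rw [Iso.refl_hom, Category.comp_id]; exact hU.isoSpec_hom_fromSpec.symm
  · simp

theorem exists_regular_flatBC {Y X S : Scheme.{u}} (p : X ⟶ S) [Flat p] (j : Y ⟶ S) [IsClosedImmersion j]
    (hj : Mor2.IsRegularClosedImmersion j) : Mor2.IsRegularClosedImmersion (pullback.fst p j) := by
  refine ⟨inferInstance, fun w => ?_⟩
  obtain ⟨U, hU, hwU, rs, hrs, hI⟩ := hj.2 (pullback.snd p j w)
  have hwU' : pullback.fst p j w ∈ p ⁻¹ᵁ U := by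
    show p (pullback.fst p j w) ∈ U
    rw [← Scheme.Hom.comp_apply, pullback.condition, Scheme.Hom.comp_apply]
    exact hwU
  obtain ⟨_, ⟨V : X.Opens, hV, rfl⟩, hwV, hVU⟩ := X.isBasis_affineOpens.exists_subset_of_mem_open hwU' (p ⁻¹ᵁ U).2
  letI : Algebra Γ(S, U) Γ(X, V) := (p.appLE U V hVU).hom.toAlgebra
  haveI : Module.Flat Γ(S, U) Γ(X, V) :=
    RingHom.flat_algebraMap_iff.1 (HasRingHomProperty.appLE @Flat p ‹_› ⟨U, hU⟩ ⟨V, hV⟩ hVU)
  have hs := j.app_surjective U hU
  have hk : RingHom.ker (j.app U).hom = Ideal.ofList rs := (j.ker_apply ⟨U, hU⟩).symm.trans hI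
  let e : (Γ(S, U) ⧸ Ideal.ofList rs) ≃+* Γ(Y, j ⁻¹ᵁ U) :=
    (Ideal.quotEquivOfEq hk.symm).trans (RingHom.quotientKerEquivOfSurjective hs)
  have h2 : IsPullback (Spec.map (CommRingCat.ofHom (algebraMap Γ(S, U) (Γ(S, U) ⧸ Ideal.ofList rs))))
      (Spec.map e.toCommRingCatIso.inv ≫ (hU.preimage j).fromSpec) hU.fromSpec j := by
    refine (isPullback_chart j hU).of_iso (Scheme.Spec.mapIso e.toCommRingCatIso.op) (Iso.refl _) (Iso.refl _) (Iso.refl _) ?_ ?_ (by simp) (by simp)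
    · rw [Iso.refl_hom, Category.comp_id]
      show Spec.map (j.app U) = Spec.map e.toCommRingCatIso.hom ≫ Spec.map _
      rw [← Spec.map_comp]
      rfl
    · rw [Iso.refl_hom, Category.comp_id]
      show _ = Spec.map e.toCommRingCatIso.hom ≫ _
      rw [← Spec.map_comp_assoc, Iso.inv_hom_id, Spec.map_id, Category.id_comp]
  obtain ⟨m, hm⟩ := isPullback_spec_quot (B := Γ(S, U)) (B' := Γ(X, V)) (Ideal.ofList rs)
    (Ideal.ofList (rs.map (algebraMap Γ(S, U) Γ(X, V)))) (Ideal.map_ofList _ _).symm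
  have h3 := hm.paste_vert h2
  have hfac : Spec.map (CommRingCat.ofHom (algebraMap Γ(S, U) Γ(X, V))) ≫ hU.fromSpec = hV.fromSpec ≫ p :=
    IsAffineOpen.SpecMap_appLE_fromSpec p hU hV hVU
  rw [hfac] at h3
  let l := pullback.lift (Spec.map (CommRingCat.ofHom (Ideal.Quotient.mk (Ideal.ofList (rs.map (algebraMap Γ(S, U) Γ(X, V)))))) ≫ hV.fromSpec)
    (m ≫ Spec.map e.toCommRingCatIso.inv ≫ (hU.preimage j).fromSpec) (by rw [Category.assoc, h3.w])
  refine exists_regular_affineOpen (pullback.fst p j) hV.fromSpec (rs.map (algebraMap Γ(S, U) Γ(X, V)))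
    hrs.toIsWeaklyRegular.of_flat l (IsPullback.of_bot (v₂₁ := pullback.snd p j) ?_ (pullback.lift_fst ..).symm (IsPullback.of_hasPullback p j)) w ?_
  · rw [pullback.lift_snd]; exact h3
  · rw [hV.range_fromSpec]; exact hwV

end Groth.Agent.RegCompLib
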